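import Groth.Agent.PBW.Basic
import Groth.Agent.PLieLib.Existence

/-!
# The restricted enveloping algebra and its PBW basis

For a restricted Lie algebra `(L, φ)` over a field of characteristic `p` with a finite ordered basis `b`,
`Env b φ = U(L) / (x^p - φ x)` has the basis of ordered monomials with all exponents `< p`.
-/

set_option autoImplicit false

noncomputable section

universe u v w

open UniversalEnvelopingAlgebra

attribute [local instance 100] LieRing.ofAssociativeRing

namespace Groth.Agent.RestrEnv



variable {k : Type u} [Field k] {L : Type v} [LieRing L] [LieAlgebra k L] {ι : Type w} [LinearOrder ι] [Fintype ι]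
  (b : Module.Basis ι k L)

/-- the sorted list with prescribed multiplicities -/
def mk (c : ι → ℕ) : PBW.Mon ι :=
  ⟨(∑ i, c i • ({i} : Multiset ι)).sort (· ≤ ·), (Multiset.pairwise_sort _ _).sortedLE⟩

theorem count_mk (c : ι → ℕ) (i : ι) : (mk c).1.count i = c i := by
  rw [← Multiset.coe_count, mk, Multiset.sort_eq, Multiset.count_sum', Finset.sum_eq_single i]
  · simp
  · intro j _ hj; simp [Ne.symm hj]
  · simp

theorem mon_ext {m m' : PBW.Mon ι} (h : ∀ i, m.1.count i = m'.1.count i) : m = m' :=
  Subtype.ext ((List.perm_iff_count.2 h).eq_of_sortedLE m.2 m'.2)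

theorem mk_count (m : PBW.Mon ι) : mk (fun i => m.1.count i) = m := mon_ext fun i => count_mk _ i

/-- the product of a list of basis vectors in the enveloping algebra -/
def pr (l : List ι) : UniversalEnvelopingAlgebra k L := (l.map fun i => UniversalEnvelopingAlgebra.ι k (b i)).prod

theorem pr_cons (i : ι) (l : List ι) : pr b (i :: l) = UniversalEnvelopingAlgebra.ι k (b i) * pr b l := by
  simp [pr]

theorem pr_append (l l' : List ι) : pr b (l ++ l') = pr b l * pr b l' := by simp [pr]

theorem mon_eq_pr (m : PBW.Mon ι) : PBW.mon b m = pr b m.1 := rfl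

/-- monomials of length `< n` -/
def F (n : ℕ) : Submodule k (UniversalEnvelopingAlgebra k L) :=
  Submodule.span k (PBW.mon b '' {m | m.1.length < n})

theorem mon_mem_F {m : PBW.Mon ι} {n : ℕ} (h : m.1.length < n) : PBW.mon b m ∈ F b n :=
  Submodule.subset_span ⟨m, h, rfl⟩

theorem F_mono {n n' : ℕ} (h : n ≤ n') : F b n ≤ F b n' :=
  Submodule.span_mono (Set.image_mono fun m hm => lt_of_lt_of_le (show m.1.length < n from hm) h)

theorem gen_mul_F (q : ι) {n : ℕ} {u : UniversalEnvelopingAlgebra k L} (hu : u ∈ F b n) :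
    UniversalEnvelopingAlgebra.ι k (b q) * u ∈ F b (n + 1) := by
  induction hu using Submodule.span_induction with
  | mem u hu =>
    obtain ⟨m, hm, rfl⟩ := hu
    have hm' : m.1.length < n := hm
    have hle : PBW.monLow b m.1.length ≤ F b (n + 1) :=
      Submodule.span_mono (Set.image_mono fun m' hm'' => by
        have : m'.1.length ≤ m.1.length := hm''
        show m'.1.length < n + 1
        omega)
    have := Submodule.add_mem _ (hle (PBW.gen_mul_mon b _ q m le_rfl))
      (mon_mem_F b (n := n + 1) (m := PBW.ins q m) (by rw [PBW.length_ins]; omega))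
    rwa [sub_add_cancel] at this
  | zero => simp
  | add u v _ _ hu hv => rw [mul_add]; exact Submodule.add_mem _ hu hv
  | smul c u _ hu => rw [mul_smul_comm]; exact Submodule.smul_mem _ _ hu

theorem pr_mul_F : ∀ (l : List ι) {n : ℕ} {u : UniversalEnvelopingAlgebra k L}, u ∈ F b n →
    pr b l * u ∈ F b (l.length + n)
  | [], n, u, hu => by simpa [pr] using hu
  | i :: l, n, u, hu => by
    rw [pr_cons, mul_assoc, List.length_cons, show l.length + 1 + n = l.length + n + 1 by omega]
    exact gen_mul_F b i (pr_mul_F l hu)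

theorem pr_mem_F (l : List ι) : pr b l ∈ F b (l.length + 1) := by
  have h : (1 : UniversalEnvelopingAlgebra k L) ∈ F b 1 := by
    rw [← PBW.mon_nil b]; exact mon_mem_F b (by simp [PBW.nil])
  simpa using pr_mul_F b l h

theorem F_mul {a c : ℕ} {u v : UniversalEnvelopingAlgebra k L} (hu : u ∈ F b a) (hv : v ∈ F b (c + 1)) :
    u * v ∈ F b (a + c) := by
  induction hu using Submodule.span_induction with
  | mem u hu =>
    obtain ⟨m, hm, rfl⟩ := hu
    have hm' : m.1.length < a := hm
    exact F_mono b (by omega) (pr_mul_F b m.1 hv)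
  | zero => simp
  | add u v _ _ hu hv => rw [add_mul]; exact Submodule.add_mem _ hu hv
  | smul c u _ hu => rw [smul_mul_assoc]; exact Submodule.smul_mem _ _ hu

theorem pr_sub_mon : ∀ (l : List ι) (m : PBW.Mon ι), (∀ i, m.1.count i = l.count i) →
    pr b l - PBW.mon b m ∈ F b l.length
  | [], m, h => by
    have : m = PBW.nil := mon_ext (fun i => by simpa [PBW.nil] using h i)
    rw [this, PBW.mon_nil]; simp [pr]
  | q :: t, m, h => by
    have hm : m = PBW.ins q (mk fun i => t.count i) := mon_ext fun i => by
      have hp := List.perm_orderedInsert (· ≤ ·) q (mk fun i => t.count i).1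
      show _ = List.count i ((mk fun i => t.count i).1.orderedInsert (· ≤ ·) q)
      rw [h, hp.count_eq, List.count_cons, List.count_cons, count_mk]
    set m' := mk fun i => t.count i with hm'
    have hlen : m'.1.length = t.length := (List.perm_iff_count.2 fun i => count_mk _ i).length_eq
    rw [hm, pr_cons, ← sub_add_sub_cancel _ (UniversalEnvelopingAlgebra.ι k (b q) * PBW.mon b m')]
    refine Submodule.add_mem _ ?_ ?_
    · rw [← mul_sub]
      exact gen_mul_F b q (pr_sub_mon t m' (fun i => count_mk _ i))
    · exact Submodule.span_mono (Set.image_mono fun m'' hm'' => by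
        have : m''.1.length ≤ m'.1.length := hm''
        show m''.1.length < _
        rw [List.length_cons]; omega) (PBW.gen_mul_mon b _ q m' le_rfl)

/-- `u` has leading term `pr l` for some list `l` with multiplicities `c`. -/
def Leads (u : UniversalEnvelopingAlgebra k L) (c : ι → ℕ) : Prop :=
  ∃ l : List ι, u - pr b l ∈ F b l.length ∧ ∀ i, l.count i = c i

theorem leads_one : Leads b (1 : UniversalEnvelopingAlgebra k L) 0 := ⟨[], by simp [pr], fun i => by simp⟩

theorem leads_pr (l : List ι) : Leads b (pr b l) (fun i => l.count i) := ⟨l, by simp, fun i => rfl⟩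

theorem Leads.mul {u v : UniversalEnvelopingAlgebra k L} {c d : ι → ℕ} (hu : Leads b u c) (hv : Leads b v d) :
    Leads b (u * v) (c + d) := by
  obtain ⟨l, hl, hc⟩ := hu
  obtain ⟨l', hl', hd⟩ := hv
  refine ⟨l ++ l', ?_, fun i => by rw [List.count_append, hc, hd, Pi.add_apply]⟩
  rw [pr_append, List.length_append, show u * v - pr b l * pr b l' = (u - pr b l) * v + pr b l * (v - pr b l') by noncomm_ring]
  refine Submodule.add_mem _ ?_ (pr_mul_F b l hl')
  refine F_mul b hl ?_
  have := Submodule.add_mem _ (F_mono b (Nat.le_succ _) hl') (pr_mem_F b l')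
  rwa [sub_add_cancel] at this

theorem Leads.pow {u : UniversalEnvelopingAlgebra k L} {c : ι → ℕ} (hu : Leads b u c) :
    ∀ n : ℕ, Leads b (u ^ n) (n • c)
  | 0 => by rw [pow_zero, zero_smul]; exact leads_one b
  | n + 1 => by rw [pow_succ, succ_nsmul]; exact (hu.pow n).mul b hu

theorem Leads.sub_mon {u : UniversalEnvelopingAlgebra k L} {c : ι → ℕ} (hu : Leads b u c) :
    u - PBW.mon b (mk c) ∈ F b (mk c).1.length := by
  obtain ⟨l, hl, hc⟩ := hu
  have hlen : (mk c).1.length = l.length := (List.perm_iff_count.2 fun i => by rw [count_mk, hc]).length_eq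
  rw [hlen, ← sub_add_sub_cancel u (pr b l)]
  exact Submodule.add_mem _ hl (pr_sub_mon b l _ fun i => by rw [count_mk, hc])

theorem ι_mem_F_two (y : L) : UniversalEnvelopingAlgebra.ι k y ∈ F b 2 := by
  rw [← b.linearCombination_repr y, Finsupp.linearCombination_apply, Finsupp.sum,
    ← LieHom.coe_toLinearMap, map_sum]
  refine Submodule.sum_mem _ fun q _ => ?_
  rw [map_smul]
  refine Submodule.smul_mem _ _ ?_
  have := pr_mem_F b [q]
  simpa [pr] using this

theorem mon_exists_F (v : UniversalEnvelopingAlgebra k L) : ∃ N, v ∈ F b N := by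
  have hv : v ∈ Submodule.span k (Set.range (PBW.mon b)) := PBW.span_mon b trivial
  induction hv using Submodule.span_induction with
  | mem v hv => obtain ⟨m, rfl⟩ := hv; exact ⟨_, mon_mem_F b (Nat.lt_succ_self _)⟩
  | zero => exact ⟨0, Submodule.zero_mem _⟩
  | add u v _ _ hu hv =>
    obtain ⟨a, ha⟩ := hu
    obtain ⟨c, hc⟩ := hv
    exact ⟨max a c, Submodule.add_mem _ (F_mono b (le_max_left _ _) ha) (F_mono b (le_max_right _ _) hc)⟩
  | smul r u _ hu => obtain ⟨a, ha⟩ := hu; exact ⟨a, Submodule.smul_mem _ _ ha⟩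

variable {p : ℕ} [Fact p.Prime] [CharP k p] (φ : PLie.PMap k p L)

omit [LinearOrder ι] [Fintype ι] in
theorem central_gen (x y : L) :
    (UniversalEnvelopingAlgebra.ι k x ^ p - UniversalEnvelopingAlgebra.ι k (φ x)) * UniversalEnvelopingAlgebra.ι k y =
      UniversalEnvelopingAlgebra.ι k y * (UniversalEnvelopingAlgebra.ι k x ^ p - UniversalEnvelopingAlgebra.ι k (φ x)) := by
  let ι₀ := (UniversalEnvelopingAlgebra.ι k : L →ₗ⁅k⁆ UniversalEnvelopingAlgebra k L)
  have hbr : ∀ a c : L, ι₀ a * ι₀ c - ι₀ c * ι₀ a = ι₀ ⁅a, c⁆ := fun a c => (ι₀.map_lie a c).symm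
  have hiter : ∀ n, ((fun w => ι₀ x * w - w * ι₀ x)^[n]) (ι₀ y) = ι₀ ((LieAlgebra.ad k L x ^ n) y) := fun n => by
    induction n with
    | zero => rfl
    | succ n ih => rw [Function.iterate_succ_apply', ih, pow_succ', Module.End.mul_apply, LieAlgebra.ad_apply, ← hbr]
  rw [← sub_eq_zero, sub_mul, mul_sub, sub_sub_sub_comm, hbr, ← PLieLib.commutator_pow (R := k), hiter,
    ← φ.ad_map, LieAlgebra.ad_apply, sub_self]

/-- the central elements `x_i^p - φ x_i` -/
def zc (i : ι) : Subalgebra.center k (UniversalEnvelopingAlgebra k L) :=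
  ⟨UniversalEnvelopingAlgebra.ι k (b i) ^ p - UniversalEnvelopingAlgebra.ι k (φ (b i)), by
    rw [Subalgebra.mem_center_iff]
    intro v
    have hv : v ∈ Submodule.span k (Set.range (PBW.mon b)) := PBW.span_mon b trivial
    induction hv using Submodule.span_induction with
    | mem v hv =>
      obtain ⟨⟨l, hl⟩, rfl⟩ := hv
      rw [mon_eq_pr]
      show pr b l * _ = _ * pr b l
      clear hl
      induction l with
      | nil => simp [pr]
      | cons q t ih => rw [pr_cons, mul_assoc, ih, ← mul_assoc, ← mul_assoc, central_gen φ (b i) (b q)]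
    | zero => simp
    | add u v _ _ hu hv => rw [add_mul, mul_add, hu, hv]
    | smul r u _ hu => rw [smul_mul_assoc, mul_smul_comm, hu]⟩

theorem leads_zc (i : ι) : Leads b (zc b φ i : UniversalEnvelopingAlgebra k L) (p • Pi.single i 1) := by
  refine ⟨List.replicate p i, ?_, fun j => ?_⟩
  · have h : pr b (List.replicate p i) = UniversalEnvelopingAlgebra.ι k (b i) ^ p := by simp [pr]
    rw [h, List.length_replicate, show (zc b φ i : UniversalEnvelopingAlgebra k L) -
      UniversalEnvelopingAlgebra.ι k (b i) ^ p = -UniversalEnvelopingAlgebra.ι k (φ (b i)) by simp [zc]]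
    exact Submodule.neg_mem _ (F_mono b (Fact.out : p.Prime).two_le (ι_mem_F_two b _))
  · by_cases h : j = i
    · subst h; simp
    · simp [List.count_replicate, h, Ne.symm h]

/-- products of powers of the central elements -/
def zp (a : ι → ℕ) : UniversalEnvelopingAlgebra k L := ((∏ i, zc b φ i ^ a i : Subalgebra.center k _) : _)

theorem leads_zp (a : ι → ℕ) : Leads b (zp b φ a) (p • a) := by
  classical
  suffices h : ∀ s : Finset ι, Leads b ((∏ i ∈ s, zc b φ i ^ a i : Subalgebra.center k _) : UniversalEnvelopingAlgebra k L)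
      (p • fun i => if i ∈ s then a i else 0) by
    simpa [zp] using h Finset.univ
  intro s
  induction s using Finset.induction_on with
  | empty =>
    rw [show (p • fun i => if i ∈ (∅ : Finset ι) then a i else 0) = 0 by funext i; simp, Finset.prod_empty]
    exact leads_one b
  | insert j s hj ih =>
    rw [Finset.prod_insert hj, Subalgebra.coe_mul, Subalgebra.coe_pow,
      show (p • fun i => if i ∈ insert j s then a i else 0) =
        (a j • (p • Pi.single j 1)) + (p • fun i => if i ∈ s then a i else 0) by
      funext i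
      by_cases h : i = j
      · subst h; simp [hj, mul_comm]
      · simp [h]]
    exact ((leads_zc b φ j).pow b (a j)).mul b ih

/-- the modified monomials -/
def T (m : PBW.Mon ι) : UniversalEnvelopingAlgebra k L :=
  zp b φ (fun i => m.1.count i / p) * PBW.mon b (mk fun i => m.1.count i % p)

theorem T_sub_mon (m : PBW.Mon ι) : T b φ m - PBW.mon b m ∈ F b m.1.length := by
  have h := ((leads_zp b φ fun i => m.1.count i / p).mul b (leads_pr b (mk fun i => m.1.count i % p).1)).sub_mon b
  have e : mk ((p • fun i => m.1.count i / p) + fun i => (mk fun i => m.1.count i % p).1.count i) = m :=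
    mon_ext fun i => by
      rw [count_mk, Pi.add_apply, Pi.smul_apply, count_mk, smul_eq_mul, Nat.div_add_mod]
  rw [e] at h
  exact h

/-- the unitriangular map sending monomials to modified monomials -/
def tri : UniversalEnvelopingAlgebra k L →ₗ[k] UniversalEnvelopingAlgebra k L := (PBW.basis b).constr k (T b φ)

theorem tri_mon (m : PBW.Mon ι) : tri b φ (PBW.mon b m) = T b φ m := by
  rw [← PBW.basis_apply, tri, Module.Basis.constr_basis]

theorem tri_sub_mem {n : ℕ} {v : UniversalEnvelopingAlgebra k L} (hv : v ∈ F b (n + 1)) : tri b φ v - v ∈ F b n := by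
  induction hv using Submodule.span_induction with
  | mem v hv =>
    obtain ⟨m, hm, rfl⟩ := hv
    rw [tri_mon]
    exact F_mono b (Nat.lt_succ_iff.mp hm) (T_sub_mon b φ m)
  | zero => simp
  | add u v _ _ hu hv => rw [map_add, add_sub_add_comm]; exact Submodule.add_mem _ hu hv
  | smul r u _ hu => rw [map_smul, ← smul_sub]; exact Submodule.smul_mem _ _ hu

theorem F_zero : F b (0 : ℕ) = ⊥ := by
  rw [F, Submodule.span_eq_bot]
  rintro _ ⟨m, hm, rfl⟩
  exact absurd (show m.1.length < 0 from hm) (Nat.not_lt_zero _)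

theorem tri_bijective : Function.Bijective (tri b φ) := by
  constructor
  · rw [← LinearMap.ker_eq_bot, Submodule.eq_bot_iff]
    intro v hv
    obtain ⟨N, hN⟩ := mon_exists_F b v
    induction N with
    | zero => rwa [F_zero, Submodule.mem_bot] at hN
    | succ N ih =>
      have := tri_sub_mem b φ hN
      rw [LinearMap.mem_ker.1 hv, zero_sub, Submodule.neg_mem_iff] at this
      exact ih this
  · intro v
    suffices h : ∀ N, ∀ v ∈ F b N, v ∈ LinearMap.range (tri b φ) by
      obtain ⟨N, hN⟩ := mon_exists_F b v; exact h N v hN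
    intro N
    induction N with
    | zero => intro v hv; rw [F_zero, Submodule.mem_bot] at hv; rw [hv]; exact Submodule.zero_mem _
    | succ N ih =>
      intro v hv
      have := Submodule.sub_mem _ (LinearMap.mem_range_self (tri b φ) v) (ih _ (tri_sub_mem b φ hv))
      rwa [sub_sub_cancel] at this

/-- the modified PBW basis -/
def Tbasis : Module.Basis (PBW.Mon ι) k (UniversalEnvelopingAlgebra k L) :=
  (PBW.basis b).map (LinearEquiv.ofBijective (tri b φ) (tri_bijective b φ))

theorem Tbasis_apply (m : PBW.Mon ι) : Tbasis b φ m = T b φ m := by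
  rw [Tbasis, Module.Basis.map_apply, LinearEquiv.ofBijective_apply, PBW.basis_apply, tri_mon]

theorem zc_mul_T (j : ι) (m : PBW.Mon ι) :
    (zc b φ j : UniversalEnvelopingAlgebra k L) * T b φ m =
      T b φ (mk (fun i => m.1.count i + p * (Pi.single j 1 : ι → ℕ) i)) := by
  classical
  rw [T, T, ← mul_assoc]
  simp only [count_mk, Nat.add_mul_mod_self_left, Nat.add_mul_div_left _ _ (Fact.out : p.Prime).pos]
  congr 1
  rw [zp, zp, ← Subalgebra.coe_mul]
  congr 1
  simp only [pow_add, Finset.prod_mul_distrib]
  rw [Finset.prod_eq_single j (f := fun i => zc b φ i ^ (Pi.single j 1 : ι → ℕ) i) (fun i _ hi => by simp [hi]) (by simp)]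
  simp [mul_comm]

/-- restricted monomials: all multiplicities `< p` -/
abbrev RMon (ι : Type w) [LinearOrder ι] (p : ℕ) : Type w := {m : PBW.Mon ι // ∀ i, m.1.count i < p}

instance : Finite (RMon ι p) :=
  Finite.of_injective (fun m : RMon ι p => fun i => (⟨m.1.1.count i, m.2 i⟩ : Fin p)) fun m m' h =>
    Subtype.ext (mon_ext fun i => congrArg Fin.val (congrFun h i))

theorem T_restricted (m : RMon ι p) : T b φ m.1 = PBW.mon b m.1 := by
  have h0 : (fun i => m.1.1.count i / p) = 0 := funext fun i => Nat.div_eq_of_lt (m.2 i)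
  have h1 : (fun i => m.1.1.count i % p) = fun i => m.1.1.count i := funext fun i => Nat.mod_eq_of_lt (m.2 i)
  rw [T, h0, h1, mk_count]
  simp [zp]

/-- the ideal of the restricted enveloping algebra -/
def I : Ideal (UniversalEnvelopingAlgebra k L) :=
  Ideal.span (Set.range fun i => (zc b φ i : UniversalEnvelopingAlgebra k L))

theorem zc_comm (i : ι) (v : UniversalEnvelopingAlgebra k L) :
    (zc b φ i : UniversalEnvelopingAlgebra k L) * v = v * zc b φ i :=
  ((Subalgebra.mem_center_iff.1 (zc b φ i).2) v).symm

instance : (I b φ).IsTwoSided := ⟨fun {a} c ha => by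
  induction ha using Submodule.span_induction with
  | mem x hx =>
    obtain ⟨i, rfl⟩ := hx
    show (zc b φ i : UniversalEnvelopingAlgebra k L) * c ∈ I b φ
    rw [zc_comm]; exact Ideal.mul_mem_left _ _ (Ideal.subset_span ⟨i, rfl⟩)
  | zero => simp
  | add u v _ _ hu hv => rw [add_mul]; exact Ideal.add_mem _ hu hv
  | smul r u _ hu => rw [smul_eq_mul, mul_assoc]; exact Ideal.mul_mem_left _ _ hu⟩

/-- the span of the non-restricted modified monomials -/
def NR : Submodule k (UniversalEnvelopingAlgebra k L) :=
  Submodule.span k (T b φ '' {m | ¬ ∀ i, m.1.count i < p})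

theorem zc_mul_mem_NR (j : ι) (v : UniversalEnvelopingAlgebra k L) :
    (zc b φ j : UniversalEnvelopingAlgebra k L) * v ∈ NR b φ := by
  classical
  induction (Tbasis b φ).mem_span v using Submodule.span_induction with
  | mem v hv =>
    obtain ⟨m, rfl⟩ := hv
    rw [Tbasis_apply, zc_mul_T]
    refine Submodule.subset_span ⟨_, fun h => ?_, rfl⟩
    have := h j
    rw [count_mk, Pi.single_eq_same] at this
    omega
  | zero => simp
  | add u v _ _ hu hv => rw [mul_add]; exact Submodule.add_mem _ hu hv
  | smul r u _ hu => rw [mul_smul_comm]; exact Submodule.smul_mem _ _ hu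

theorem exists_zc_factor {m : PBW.Mon ι} (hm : ¬ ∀ i, m.1.count i < p) :
    ∃ j m', T b φ m = (zc b φ j : UniversalEnvelopingAlgebra k L) * T b φ m' := by
  classical
  push Not at hm
  obtain ⟨j, hj⟩ := hm
  refine ⟨j, mk (fun i => m.1.count i - p * (Pi.single j 1 : ι → ℕ) i), ?_⟩
  rw [zc_mul_T]
  congr 1
  refine mon_ext fun i => ?_
  rw [count_mk, count_mk]
  by_cases h : i = j
  · subst h; rw [Pi.single_eq_same]; omega
  · simp [h]

theorem mem_I_iff (v : UniversalEnvelopingAlgebra k L) : v ∈ I b φ ↔ v ∈ NR b φ := by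
  constructor
  · intro hv
    induction hv using Submodule.span_induction with
    | mem x hx =>
      obtain ⟨i, rfl⟩ := hx
      simpa using zc_mul_mem_NR b φ i 1
    | zero => simp
    | add u v _ _ hu hv => exact Submodule.add_mem _ hu hv
    | smul r u hu' hu =>
      clear hu'
      rw [smul_eq_mul]
      induction hu using Submodule.span_induction with
      | mem x hx =>
        obtain ⟨m, hm, rfl⟩ := hx
        obtain ⟨j, m', h⟩ := exists_zc_factor b φ hm
        rw [h, ← mul_assoc, ← zc_comm, mul_assoc]
        exact zc_mul_mem_NR b φ j _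
      | zero => simp
      | add u v _ _ hu hv => rw [mul_add]; exact Submodule.add_mem _ hu hv
      | smul c u _ hu => rw [mul_smul_comm]; exact Submodule.smul_mem _ _ hu
  · intro hv
    induction hv using Submodule.span_induction with
    | mem x hx =>
      obtain ⟨m, hm, rfl⟩ := hx
      obtain ⟨j, m', h⟩ := exists_zc_factor b φ hm
      rw [h, zc_comm]
      exact Ideal.mul_mem_left _ _ (Ideal.subset_span ⟨j, rfl⟩)
    | zero => simp
    | add u v _ _ hu hv => exact Ideal.add_mem _ hu hv
    | smul c u _ hu => rw [Algebra.smul_def]; exact Ideal.mul_mem_left _ _ hu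

/-- the restricted enveloping algebra -/
abbrev Env : Type (max u v) := UniversalEnvelopingAlgebra k L ⧸ I b φ

/-- the quotient map -/
def toEnv : UniversalEnvelopingAlgebra k L →ₐ[k] Env b φ := Ideal.Quotient.mkₐ k (I b φ)

theorem toEnv_surjective : Function.Surjective (toEnv b φ) := Ideal.Quotient.mkₐ_surjective k _

theorem toEnv_eq_zero_iff (v : UniversalEnvelopingAlgebra k L) : toEnv b φ v = 0 ↔ v ∈ NR b φ :=
  Ideal.Quotient.eq_zero_iff_mem.trans (mem_I_iff b φ v)

/-- the restricted monomials in the restricted enveloping algebra -/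
def rmon (m : RMon ι p) : Env b φ := toEnv b φ (PBW.mon b m.1)

theorem linearIndependent_rmon : LinearIndependent k (rmon b φ) := by
  rw [linearIndependent_iff]
  intro c hc
  have h : toEnv b φ (Finsupp.linearCombination k (fun m : RMon ι p => T b φ m.1) c) = 0 := by
    rw [← AlgHom.toLinearMap_apply, Finsupp.apply_linearCombination]
    refine Eq.trans ?_ hc
    congr 2
    funext m
    exact congrArg (toEnv b φ) (T_restricted b φ m)
  rw [toEnv_eq_zero_iff] at h
  have hli : LinearIndependent k (T b φ) := by
    have := (Tbasis b φ).linearIndependent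
    rwa [show ⇑(Tbasis b φ) = T b φ from funext (Tbasis_apply b φ)] at this
  have h1 : Finsupp.linearCombination k (fun m : RMon ι p => T b φ m.1) c ∈
      Submodule.span k (T b φ '' {m | ∀ i, m.1.count i < p}) := by
    rw [Finsupp.linearCombination_apply]
    exact Submodule.sum_mem _ fun m _ => Submodule.smul_mem _ _ (Submodule.subset_span ⟨m.1, m.2, rfl⟩)
  have h2 := Submodule.disjoint_def.1 (hli.disjoint_span_image (s := {m | ∀ i, m.1.count i < p})
    (t := {m | ¬ ∀ i, m.1.count i < p}) (Set.disjoint_left.2 fun m hm hm' => hm' hm)) _ h1 h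
  exact (linearIndependent_iff.1 (hli.comp _ Subtype.val_injective)) c h2

theorem span_rmon : ⊤ ≤ Submodule.span k (Set.range (rmon b φ)) := by
  rintro x -
  obtain ⟨v, rfl⟩ := toEnv_surjective b φ x
  induction (Tbasis b φ).mem_span v using Submodule.span_induction with
  | mem v hv =>
    obtain ⟨m, rfl⟩ := hv
    rw [Tbasis_apply]
    by_cases hm : ∀ i, m.1.count i < p
    · refine Submodule.subset_span ⟨⟨m, hm⟩, ?_⟩
      rw [rmon, T_restricted b φ ⟨m, hm⟩]
    · rw [(toEnv_eq_zero_iff b φ _).2 (Submodule.subset_span ⟨m, hm, rfl⟩)]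
      exact Submodule.zero_mem _
  | zero => simp
  | add u v _ _ hu hv => rw [map_add]; exact Submodule.add_mem _ hu hv
  | smul r u _ hu => rw [map_smul]; exact Submodule.smul_mem _ _ hu

/-- the restricted PBW basis -/
def basis : Module.Basis (RMon ι p) k (Env b φ) :=
  Module.Basis.mk (linearIndependent_rmon b φ) (span_rmon b φ)

theorem basis_apply (m : RMon ι p) : basis b φ m = rmon b φ m := Module.Basis.mk_apply _ _ m

instance : Module.Finite k (Env b φ) := Module.Finite.of_basis (basis b φ)

/-- the canonical map from `L` -/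
def incl : L →ₗ⁅k⁆ Env b φ := (toEnv b φ).toLieHom.comp (UniversalEnvelopingAlgebra.ι k)

theorem incl_apply (x : L) : incl b φ x = toEnv b φ (UniversalEnvelopingAlgebra.ι k x) := rfl

theorem incl_injective : Function.Injective (incl b φ) := by
  let one : ι → RMon ι p := fun i =>
    ⟨⟨[i], (List.pairwise_singleton (· ≤ ·) i).sortedLE⟩, fun j => by
      have := (Fact.out : p.Prime).one_lt
      rw [List.count_singleton]; split_ifs <;> omega⟩
  have h : (⇑(incl b φ).toLinearMap ∘ ⇑b) = ⇑(basis b φ) ∘ one := funext fun i => by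
    simp [basis_apply, rmon, incl_apply, one, PBW.mon]
  have hli : LinearIndependent k (⇑(incl b φ).toLinearMap ∘ ⇑b) := by
    rw [h]
    refine (basis b φ).linearIndependent.comp one fun i j hij => ?_
    simpa [one] using congrArg (fun m : RMon ι p => m.1.1) hij
  exact fun x y hxy => LinearMap.injective_of_linearIndependent b.span_eq hli hxy

theorem pow_sub_mem_span (x : L) :
    UniversalEnvelopingAlgebra.ι k x ^ p - UniversalEnvelopingAlgebra.ι k (φ x) ∈
      Submodule.span k (Set.range fun i => (zc b φ i : UniversalEnvelopingAlgebra k L)) := by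
  let ι₀ := (UniversalEnvelopingAlgebra.ι k : L →ₗ⁅k⁆ UniversalEnvelopingAlgebra k L)
  show ι₀ x ^ p - ι₀ (φ x) ∈ _
  induction b.mem_span x using Submodule.span_induction with
  | mem w hw => obtain ⟨i, rfl⟩ := hw; exact Submodule.subset_span ⟨i, rfl⟩
  | zero =>
    have h0 : φ (0 : L) = 0 := by
      have := φ.map_smul 0 0
      rwa [zero_smul, zero_pow (Fact.out : p.Prime).ne_zero, zero_smul] at this
    rw [map_zero, zero_pow (Fact.out : p.Prime).ne_zero, h0, map_zero, sub_zero]
    exact Submodule.zero_mem _
  | add a c _ _ ha hc =>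
    rw [map_add, PLieLib.add_pow_char_eq (R := k), φ.map_add, map_sub, map_add,
      PLieLib.jacobson_map ι₀ a c, sub_sub_sub_cancel_right, add_sub_add_comm]
    exact Submodule.add_mem _ ha hc
  | smul r a _ ha =>
    rw [map_smul, smul_pow, φ.map_smul, map_smul, ← smul_sub]
    exact Submodule.smul_mem _ _ ha

theorem incl_pow (x : L) : incl b φ x ^ p = incl b φ (φ x) := by
  rw [incl_apply, incl_apply, ← map_pow, ← sub_eq_zero, ← map_sub]
  refine Ideal.Quotient.eq_zero_iff_mem.2 ?_
  have h := pow_sub_mem_span b φ x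
  generalize UniversalEnvelopingAlgebra.ι k x ^ p - UniversalEnvelopingAlgebra.ι k (φ x) = w at h ⊢
  induction h using Submodule.span_induction with
  | mem w hw => exact Ideal.subset_span hw
  | zero => simp
  | add u v _ _ hu hv => exact Ideal.add_mem _ hu hv
  | smul r u _ hu => rw [Algebra.smul_def]; exact Ideal.mul_mem_left _ _ hu

variable {B : Type*} [Ring B] [Algebra k B]

/-- the universal property -/
def lift (f : L →ₗ⁅k⁆ B) (hf : ∀ i, f (b i) ^ p = f (φ (b i))) : Env b φ →ₐ[k] B :=
  Ideal.Quotient.liftₐ (I b φ) (UniversalEnvelopingAlgebra.lift k f) (fun a ha => by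
    induction ha using Submodule.span_induction with
    | mem x hx => obtain ⟨i, rfl⟩ := hx; simp [zc, hf]
    | zero => simp
    | add u v _ _ hu hv => rw [map_add, hu, hv, add_zero]
    | smul r u _ hu => rw [smul_eq_mul, map_mul, hu, mul_zero])

theorem lift_incl (f : L →ₗ⁅k⁆ B) (hf : ∀ i, f (b i) ^ p = f (φ (b i))) (x : L) :
    lift b φ f hf (incl b φ x) = f x :=
  UniversalEnvelopingAlgebra.lift_ι_apply k f x

theorem algHom_ext {f g : Env b φ →ₐ[k] B} (h : ∀ i, f (incl b φ (b i)) = g (incl b φ (b i))) : f = g := by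
  apply AlgHom.toLinearMap_injective
  refine (basis b φ).ext fun m => ?_
  rw [basis_apply, AlgHom.toLinearMap_apply, AlgHom.toLinearMap_apply, rmon, mon_eq_pr]
  induction m.1.1 with
  | nil => simp [pr]
  | cons q t ih => rw [pr_cons, map_mul, map_mul, map_mul, ih, ← incl_apply, h]

end Groth.Agent.RestrEnv
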