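import Groth.Agent.RestrEnv.Basic

/-!
# The Hopf algebra structure on the restricted enveloping algebra and its primitive elements
-/

set_option autoImplicit false

noncomputable section

universe u v w

open scoped TensorProduct
open UniversalEnvelopingAlgebra

attribute [local instance 100] LieRing.ofAssociativeRing

namespace Groth.Agent.RestrEnv

variable {k : Type u} [Field k] {L : Type v} [LieRing L] [LieAlgebra k L] {ι : Type w} [LinearOrder ι] [Fintype ι]
  (b : Module.Basis ι k L) {p : ℕ} [Fact p.Prime] [CharP k p] (φ : PLie.PMap k p L)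

local notation "u𝔤" => Env b φ

theorem add_pow_p {B : Type*} [Ring B] [Algebra k B] {x y : B} (h : Commute x y) :
    (x + y) ^ p = x ^ p + y ^ p := by
  rcases subsingleton_or_nontrivial B with _ | _
  · exact Subsingleton.elim _ _
  · haveI : CharP B p := charP_of_injective_algebraMap (algebraMap k B).injective p
    haveI : ExpChar B p := ExpChar.prime Fact.out
    exact add_pow_expChar_of_commute p h

theorem neg_pow_p {B : Type*} [Ring B] [Algebra k B] (x : B) : (-x) ^ p = -(x ^ p) := by
  have := add_pow_p (k := k) (p := p) (Commute.neg_right (Commute.refl x))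
  rw [add_neg_cancel, zero_pow (Fact.out : p.Prime).ne_zero] at this
  exact eq_neg_of_add_eq_zero_right this.symm

/-- `x ↦ x ⊗ 1 + 1 ⊗ x` -/
def comul0 : L →ₗ⁅k⁆ (u𝔤) ⊗[k] (u𝔤) where
  toLinearMap := ((TensorProduct.mk k (u𝔤) (u𝔤)).flip 1 + TensorProduct.mk k (u𝔤) (u𝔤) 1) ∘ₗ (incl b φ).toLinearMap
  map_lie' {x y} := by
    show incl b φ ⁅x, y⁆ ⊗ₜ[k] (1 : u𝔤) + 1 ⊗ₜ[k] incl b φ ⁅x, y⁆ =
      ⁅incl b φ x ⊗ₜ[k] (1 : u𝔤) + 1 ⊗ₜ[k] incl b φ x, incl b φ y ⊗ₜ[k] (1 : u𝔤) + 1 ⊗ₜ[k] incl b φ y⁆
    rw [LieHom.map_lie, LieRing.of_associative_ring_bracket, LieRing.of_associative_ring_bracket]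
    simp only [add_mul, mul_add, Algebra.TensorProduct.tmul_mul_tmul, one_mul, mul_one, TensorProduct.sub_tmul,
      TensorProduct.tmul_sub]
    abel

theorem comul0_apply (x : L) : comul0 b φ x = incl b φ x ⊗ₜ[k] (1 : u𝔤) + 1 ⊗ₜ[k] incl b φ x := rfl

/-- the comultiplication -/
def comulA : (u𝔤) →ₐ[k] (u𝔤) ⊗[k] (u𝔤) := lift b φ (comul0 b φ) fun i => by
  rw [comul0_apply, comul0_apply, add_pow_p (k := k) (p := p) (by
    show _ * _ = _ * _
    simp only [Algebra.TensorProduct.tmul_mul_tmul, one_mul, mul_one]),
    Algebra.TensorProduct.tmul_pow, Algebra.TensorProduct.tmul_pow, one_pow, incl_pow]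

theorem comulA_incl (x : L) : comulA b φ (incl b φ x) = incl b φ x ⊗ₜ[k] (1 : u𝔤) + 1 ⊗ₜ[k] incl b φ x :=
  lift_incl b φ _ _ x

/-- the counit -/
def counitA : (u𝔤) →ₐ[k] k := lift b φ (0 : L →ₗ⁅k⁆ k) fun i => by simp [(Fact.out : p.Prime).ne_zero]

theorem counitA_incl (x : L) : counitA b φ (incl b φ x) = 0 := lift_incl b φ _ _ x

instance instBialgebra : Bialgebra k (u𝔤) :=
  Bialgebra.ofAlgHom (comulA b φ) (counitA b φ)
    (algHom_ext b φ fun i => by
      simp [comulA_incl, TensorProduct.add_tmul, TensorProduct.tmul_add, Algebra.TensorProduct.one_def, add_assoc])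
    (algHom_ext b φ fun i => by simp [comulA_incl, counitA_incl])
    (algHom_ext b φ fun i => by simp [comulA_incl, counitA_incl])

theorem comul_eq (a : u𝔤) : Coalgebra.comul (R := k) a = comulA b φ a := rfl

theorem counit_eq (a : u𝔤) : Coalgebra.counit (R := k) a = counitA b φ a := rfl

/-- `x ↦ -x` into the opposite algebra -/
def antip0 : L →ₗ⁅k⁆ (u𝔤)ᵐᵒᵖ where
  toLinearMap := -((MulOpposite.opLinearEquiv k).toLinearMap ∘ₗ (incl b φ).toLinearMap)
  map_lie' {x y} := by
    show -MulOpposite.op (incl b φ ⁅x, y⁆) = ⁅-MulOpposite.op (incl b φ x), -MulOpposite.op (incl b φ y)⁆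
    rw [LieHom.map_lie, LieRing.of_associative_ring_bracket, LieRing.of_associative_ring_bracket]
    simp only [neg_mul, mul_neg, neg_neg, MulOpposite.op_sub, MulOpposite.op_mul, neg_sub]

/-- the antipode as an algebra map into the opposite algebra -/
def antipA : (u𝔤) →ₐ[k] (u𝔤)ᵐᵒᵖ := lift b φ (antip0 b φ) fun i => by
  show (-MulOpposite.op (incl b φ (b i))) ^ p = -MulOpposite.op (incl b φ (φ (b i)))
  rw [neg_pow_p (k := k), ← MulOpposite.op_pow, incl_pow]

/-- the antipode -/
def antip : (u𝔤) →ₗ[k] (u𝔤) := (MulOpposite.opLinearEquiv k).symm.toLinearMap ∘ₗ (antipA b φ).toLinearMap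

theorem antip_mul (a c : u𝔤) : antip b φ (a * c) = antip b φ c * antip b φ a := by simp [antip]

theorem antip_one : antip b φ 1 = 1 := by simp [antip]

theorem antip_incl (x : L) : antip b φ (incl b φ x) = -incl b φ x := by
  show MulOpposite.unop (antipA b φ (incl b φ x)) = _
  rw [antipA, lift_incl]
  rfl

theorem induction_on {P : u𝔤 → Prop} (a : u𝔤) (h1 : P 1) (hgen : ∀ i x, P x → P (incl b φ (b i) * x))
    (hadd : ∀ x y, P x → P y → P (x + y)) (hsmul : ∀ (c : k) x, P x → P (c • x)) : P a := by
  induction (basis b φ).mem_span a using Submodule.span_induction with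
  | mem a ha =>
    obtain ⟨m, rfl⟩ := ha
    rw [basis_apply, rmon, mon_eq_pr]
    induction m.1.1 with
    | nil => simpa [pr] using h1
    | cons q t ih => rw [pr_cons, map_mul, ← incl_apply]; exact hgen q _ ih
  | zero => simpa using hsmul 0 1 h1
  | add x y _ _ hx hy => exact hadd x y hx hy
  | smul c x _ hx => exact hsmul c x hx

/-- the convolution of two linear endomorphisms, evaluated on a tensor -/
private def cv (f g : (u𝔤) →ₗ[k] (u𝔤)) : (u𝔤) ⊗[k] (u𝔤) →ₗ[k] (u𝔤) :=
  LinearMap.mul' k (u𝔤) ∘ₗ TensorProduct.map f g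

theorem rTensor_axiom (a : u𝔤) :
    LinearMap.mul' k (u𝔤) ((antip b φ).rTensor (u𝔤) (Coalgebra.comul (R := k) a)) =
      algebraMap k (u𝔤) (Coalgebra.counit (R := k) a) := by
  have key : ∀ (i : ι) (t : (u𝔤) ⊗[k] (u𝔤)),
      LinearMap.mul' k (u𝔤) ((antip b φ).rTensor (u𝔤) (comulA b φ (incl b φ (b i)) * t)) = 0 := by
    intro i t
    rw [comulA_incl]
    induction t using TensorProduct.induction_on with
    | zero => simp
    | add s s' hs hs' => rw [mul_add, map_add, map_add, hs, hs', add_zero]
    | tmul c d =>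
      simp only [add_mul, Algebra.TensorProduct.tmul_mul_tmul, one_mul, map_add, LinearMap.rTensor_tmul,
        LinearMap.mul'_apply, antip_mul, antip_incl]
      noncomm_ring
  induction a using induction_on b φ with
  | h1 => simp [Algebra.TensorProduct.one_def, antip_one]
  | hgen i x _ => rw [comul_eq, counit_eq, map_mul, key, map_mul, counitA_incl, zero_mul, map_zero]
  | hadd x y hx hy => simp only [map_add, hx, hy]
  | hsmul c x hx => rw [map_smul, map_smul, map_smul, hx, map_smul, smul_eq_mul, map_mul, ← Algebra.smul_def]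

theorem lTensor_axiom (a : u𝔤) :
    LinearMap.mul' k (u𝔤) ((antip b φ).lTensor (u𝔤) (Coalgebra.comul (R := k) a)) =
      algebraMap k (u𝔤) (Coalgebra.counit (R := k) a) := by
  have key : ∀ (i : ι) (t : (u𝔤) ⊗[k] (u𝔤)),
      LinearMap.mul' k (u𝔤) ((antip b φ).lTensor (u𝔤) (comulA b φ (incl b φ (b i)) * t)) =
        incl b φ (b i) * LinearMap.mul' k (u𝔤) ((antip b φ).lTensor (u𝔤) t) -
          LinearMap.mul' k (u𝔤) ((antip b φ).lTensor (u𝔤) t) * incl b φ (b i) := by
    intro i t
    rw [comulA_incl]
    induction t using TensorProduct.induction_on with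
    | zero => simp
    | add s s' hs hs' =>
      rw [mul_add, map_add, map_add, hs, hs', map_add, map_add, mul_add, add_mul]
      abel
    | tmul c d =>
      simp only [add_mul, Algebra.TensorProduct.tmul_mul_tmul, one_mul, map_add, LinearMap.lTensor_tmul,
        LinearMap.mul'_apply, antip_mul, antip_incl]
      noncomm_ring
  induction a using induction_on b φ with
  | h1 => simp [Algebra.TensorProduct.one_def, antip_one]
  | hgen i x hx =>
    rw [comul_eq, counit_eq, map_mul, key, map_mul, counitA_incl, zero_mul, map_zero, ← comul_eq, hx,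
      ← Algebra.commutes, sub_self]
  | hadd x y hx hy => simp only [map_add, hx, hy]
  | hsmul c x hx => rw [map_smul, map_smul, map_smul, hx, map_smul, smul_eq_mul, map_mul, ← Algebra.smul_def]

instance instHopfAlgebra : HopfAlgebra k (u𝔤) where
  antipode := antip b φ
  mul_antipode_rTensor_comul := LinearMap.ext (rTensor_axiom b φ)
  mul_antipode_lTensor_comul := LinearMap.ext (lTensor_axiom b φ)

instance instIsCocomm : Coalgebra.IsCocomm k (u𝔤) where
  comm_comp_comul := by
    have h : (Algebra.TensorProduct.comm k (u𝔤) (u𝔤)).toAlgHom.comp (comulA b φ) = comulA b φ :=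
      algHom_ext b φ fun i => by simp [comulA_incl, add_comm]
    exact congrArg AlgHom.toLinearMap h

theorem rmon_eq (m : RMon ι p) : rmon b φ m = toEnv b φ (pr b m.1.1) := rfl

theorem coord_rmon (m : RMon ι p) (m' : RMon ι p) :
    (basis b φ).coord m (rmon b φ m') = if m' = m then 1 else 0 := by
  classical
  rw [← basis_apply, Module.Basis.coord_apply, Module.Basis.repr_self, Finsupp.single_apply]

/-- the singleton monomial -/
def single1 (q : ι) : RMon ι p :=
  ⟨⟨[q], (List.pairwise_singleton (· ≤ ·) q).sortedLE⟩, fun j => by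
    have := (Fact.out : p.Prime).one_lt
    rw [List.count_singleton]; split_ifs <;> omega⟩

theorem counitA_pr : ∀ (l : List ι), counitA b φ (toEnv b φ (pr b l)) = if l = [] then 1 else 0
  | [] => by simp [pr]
  | i :: t => by rw [pr_cons, map_mul, map_mul, ← incl_apply, counitA_incl, zero_mul, if_neg (List.cons_ne_nil _ _)]

/-- the operator "derivative along `q`": the coefficient of `x_q ⊗ -` in the comultiplication -/
def lam (q : ι) : (u𝔤) ⊗[k] (u𝔤) →ₗ[k] (u𝔤) :=
  (TensorProduct.lid k (u𝔤)).toLinearMap ∘ₗ ((basis b φ).coord (single1 q)).rTensor (u𝔤)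

theorem lam_tmul (q : ι) (c d : u𝔤) : lam b φ q (c ⊗ₜ[k] d) = (basis b φ).coord (single1 q) c • d := by
  simp [lam]

theorem restricted_sublist {l s : List ι} (hl : l.SortedLE) (hc : ∀ i, l.count i < p) (hs : s.Sublist l) :
    s.SortedLE ∧ ∀ i, s.count i < p :=
  ⟨(hl.pairwise.sublist hs).sortedLE, fun i => lt_of_le_of_lt (hs.count_le i) (hc i)⟩

theorem comul_pr : ∀ (l : List ι), l.SortedLE → (∀ i, l.count i < p) →
    comulA b φ (toEnv b φ (pr b l)) ∈
      Submodule.span k {z | ∃ (s : List ι) (v : u𝔤), s.Sublist l ∧ z = toEnv b φ (pr b s) ⊗ₜ[k] v} ∧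
    ∀ q, lam b φ q (comulA b φ (toEnv b φ (pr b l))) = l.count q • toEnv b φ (pr b (l.erase q))
  | [], _, _ => by
    have h1 : toEnv b φ (pr b ([] : List ι)) = 1 := by simp [pr]
    refine ⟨Submodule.subset_span ⟨[], 1, List.Sublist.refl _, by rw [h1, map_one, Algebra.TensorProduct.one_def]⟩, fun q => ?_⟩
    rw [h1, map_one, Algebra.TensorProduct.one_def, lam_tmul,
      show (1 : u𝔤) = rmon b φ ⟨PBW.nil, fun i => by simp [PBW.nil, (Fact.out : p.Prime).pos]⟩ by
        rw [rmon, PBW.mon_nil, map_one], coord_rmon, if_neg (fun h => by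
          have := congrArg (fun m : RMon ι p => m.1.1) h
          simp [PBW.nil, single1] at this)]
    simp
  | j :: t, hl, hc => by
    classical
    have ht := restricted_sublist hl hc (List.sublist_cons_self j t)
    obtain ⟨hspan, hlam⟩ := comul_pr t ht.1 ht.2
    have hexp : comulA b φ (toEnv b φ (pr b (j :: t))) =
        incl b φ (b j) ⊗ₜ[k] (1 : u𝔤) * comulA b φ (toEnv b φ (pr b t)) +
          (1 : u𝔤) ⊗ₜ[k] incl b φ (b j) * comulA b φ (toEnv b φ (pr b t)) := by
      rw [pr_cons, map_mul, map_mul, ← incl_apply, comulA_incl, add_mul]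
    refine ⟨?_, fun q => ?_⟩
    · rw [hexp]
      refine Submodule.add_mem _ ?_ ?_
      · generalize comulA b φ (toEnv b φ (pr b t)) = X at hspan
        induction hspan using Submodule.span_induction with
        | mem z hz =>
          obtain ⟨s, v, hs, rfl⟩ := hz
          refine Submodule.subset_span ⟨j :: s, v, hs.cons_cons j, ?_⟩
          rw [Algebra.TensorProduct.tmul_mul_tmul, one_mul, pr_cons, map_mul, ← incl_apply]
        | zero => simp
        | add x y _ _ hx hy => rw [mul_add]; exact Submodule.add_mem _ hx hy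
        | smul c x _ hx => rw [mul_smul_comm]; exact Submodule.smul_mem _ _ hx
      · generalize comulA b φ (toEnv b φ (pr b t)) = X at hspan
        induction hspan using Submodule.span_induction with
        | mem z hz =>
          obtain ⟨s, v, hs, rfl⟩ := hz
          refine Submodule.subset_span ⟨s, incl b φ (b j) * v, hs.cons j, ?_⟩
          rw [Algebra.TensorProduct.tmul_mul_tmul, one_mul]
        | zero => simp
        | add x y _ _ hx hy => rw [mul_add]; exact Submodule.add_mem _ hx hy
        | smul c x _ hx => rw [mul_smul_comm]; exact Submodule.smul_mem _ _ hx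
    have h2 : lam b φ q ((1 : u𝔤) ⊗ₜ[k] incl b φ (b j) * comulA b φ (toEnv b φ (pr b t))) =
        incl b φ (b j) * lam b φ q (comulA b φ (toEnv b φ (pr b t))) := by
      generalize comulA b φ (toEnv b φ (pr b t)) = X
      induction X using TensorProduct.induction_on with
      | zero => simp
      | add x y hx hy => rw [mul_add, map_add, map_add, hx, hy, mul_add]
      | tmul c d => rw [Algebra.TensorProduct.tmul_mul_tmul, one_mul, lam_tmul, lam_tmul, mul_smul_comm]
    have h1 : lam b φ q (incl b φ (b j) ⊗ₜ[k] (1 : u𝔤) * comulA b φ (toEnv b φ (pr b t))) =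
        if j = q then toEnv b φ (pr b t) else 0 := by
      have hco : ∀ X ∈ Submodule.span k {z | ∃ (s : List ι) (v : u𝔤), s.Sublist t ∧ z = toEnv b φ (pr b s) ⊗ₜ[k] v},
          lam b φ q (incl b φ (b j) ⊗ₜ[k] (1 : u𝔤) * X) =
            if j = q then TensorProduct.lid k (u𝔤) ((counitA b φ).toLinearMap.rTensor (u𝔤) X) else 0 := by
        intro X hX
        induction hX using Submodule.span_induction with
        | mem z hz =>
          obtain ⟨s, v, hs, rfl⟩ := hz
          obtain ⟨hs1, hs2⟩ := restricted_sublist hl hc (hs.cons_cons j)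
          rw [Algebra.TensorProduct.tmul_mul_tmul, one_mul, lam_tmul,
            show incl b φ (b j) * toEnv b φ (pr b s) = rmon b φ ⟨⟨j :: s, hs1⟩, hs2⟩ by
              rw [rmon_eq, incl_apply, ← map_mul, ← pr_cons], coord_rmon]
          simp only [LinearMap.rTensor_tmul, AlgHom.toLinearMap_apply, counitA_pr, TensorProduct.lid_tmul]
          by_cases hjq : j = q
          · subst hjq
            by_cases hs0 : s = []
            · subst hs0; simp [single1]
            · rw [if_neg, if_pos rfl, if_neg hs0]
              intro h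
              have := congrArg (fun m : RMon ι p => m.1.1) h
              simp [single1, hs0] at this
          · rw [if_neg, if_neg hjq, zero_smul]
            intro h
            have := congrArg (fun m : RMon ι p => m.1.1) h
            simp [single1, hjq] at this
        | zero => simp
        | add x y _ _ hx hy => rw [mul_add, map_add, hx, hy]; split_ifs <;> simp
        | smul c x _ hx => rw [mul_smul_comm, map_smul, hx]; split_ifs <;> simp
      rw [hco _ hspan]
      split_ifs
      · have := Coalgebra.rTensor_counit_comul (R := k) (toEnv b φ (pr b t))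
        rw [show (counitA b φ).toLinearMap = Coalgebra.counit (R := k) (A := u𝔤) from rfl, ← comul_eq, this,
          TensorProduct.lid_tmul, one_smul]
      · rfl
    rw [hexp, map_add, h1, h2, hlam q]
    by_cases hjq : j = q
    · subst hjq
      rw [if_pos rfl, List.count_cons_self, List.erase_cons_head, succ_nsmul']
      congr 1
      rcases Nat.eq_zero_or_pos (t.count j) with h0 | h0
      · rw [h0]; simp
      · obtain ⟨j', t', rfl⟩ : ∃ j' t', t = j' :: t' := by
          cases t with
          | nil => simp at h0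
          | cons j' t' => exact ⟨j', t', rfl⟩
        have hj' : j' = j := by
          refine le_antisymm ?_ (by
            have := hl.pairwise
            rw [List.pairwise_cons] at this
            exact this.1 j' (List.mem_cons_self ..))
          rcases List.mem_cons.1 (List.count_pos_iff.1 h0) with h | h
          · exact le_of_eq h.symm
          · have := ht.1.pairwise
            rw [List.pairwise_cons] at this
            exact this.1 j h
        subst hj'
        rw [mul_smul_comm, List.erase_cons_head, pr_cons, map_mul, ← incl_apply]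
    · rw [if_neg hjq, zero_add, List.count_cons_of_ne hjq, List.erase_cons_tail (by simpa using hjq), pr_cons,
        map_mul, ← incl_apply, mul_smul_comm]

theorem mem_range_incl_of_primitive {d : u𝔤}
    (hd : Coalgebra.comul (R := k) d = d ⊗ₜ[k] (1 : u𝔤) + 1 ⊗ₜ[k] d) : d ∈ LinearMap.range (incl b φ).toLinearMap := by
  classical
  haveI : Fintype (RMon ι p) := Fintype.ofFinite _
  set B := basis b φ
  let nilR : RMon ι p := ⟨PBW.nil, fun i => by simp [PBW.nil, (Fact.out : p.Prime).pos]⟩
  have hone : (1 : u𝔤) = rmon b φ nilR := by rw [rmon, PBW.mon_nil, map_one]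
  have hsum : ∑ m : RMon ι p, B.repr d m • rmon b φ m = d := by
    simpa only [B, basis_apply] using B.sum_repr d
  have hcount : counitA b φ d = B.repr d nilR := by
    conv_lhs => rw [← hsum, map_sum]
    rw [Finset.sum_eq_single nilR]
    · rw [map_smul, ← hone, map_one, smul_eq_mul, mul_one]
    · intro m _ hm
      rw [map_smul, rmon_eq, counitA_pr, if_neg, smul_zero]
      exact fun h => hm (Subtype.ext (Subtype.ext h))
    · simp
  have hε : counitA b φ d = 0 := by
    have h := congrArg (LinearMap.mul' k k ∘ₗ TensorProduct.map (counitA b φ).toLinearMap (counitA b φ).toLinearMap) hd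
    have h2 : ∀ X : (u𝔤) ⊗[k] (u𝔤), (LinearMap.mul' k k ∘ₗ TensorProduct.map (counitA b φ).toLinearMap (counitA b φ).toLinearMap) X =
        counitA b φ (TensorProduct.lid k (u𝔤) ((counitA b φ).toLinearMap.rTensor (u𝔤) X)) := by
      intro X
      induction X using TensorProduct.induction_on with
      | zero => simp
      | add x y hx hy => simp only [map_add, hx, hy]
      | tmul c e => simp
    have h3 : TensorProduct.lid k (u𝔤) ((counitA b φ).toLinearMap.rTensor (u𝔤) (Coalgebra.comul (R := k) d)) = d := by
      rw [show (counitA b φ).toLinearMap = Coalgebra.counit (R := k) (A := u𝔤) from rfl,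
        Coalgebra.rTensor_counit_comul, TensorProduct.lid_tmul, one_smul]
    rw [h2, h3] at h
    simp at h
    exact h
  have hhigh : ∀ m : RMon ι p, 2 ≤ m.1.1.length → B.repr d m = 0 := by
    intro m hm
    obtain ⟨q, hq⟩ : ∃ q, q ∈ m.1.1 := ⟨m.1.1.head (List.ne_nil_of_length_pos (by omega)), List.head_mem _⟩
    have hm' := restricted_sublist m.1.2 m.2 (List.erase_sublist (a := q) (l := m.1.1))
    let me : RMon ι p := ⟨⟨_, hm'.1⟩, hm'.2⟩
    have hL : (B.coord me) (lam b φ q (Coalgebra.comul (R := k) d)) = (m.1.1.count q : k) * B.repr d m := by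
      conv_lhs => rw [← hsum, map_sum, map_sum, map_sum]
      rw [Finset.sum_eq_single m]
      · rw [map_smul, map_smul, map_smul, comul_eq, rmon_eq, (comul_pr b φ _ m.1.2 m.2).2 q, map_nsmul,
          show toEnv b φ (pr b (m.1.1.erase q)) = rmon b φ me from rfl, coord_rmon, if_pos rfl, smul_eq_mul,
          nsmul_one, mul_comm]
      · intro m₁ _ hne
        rw [map_smul, map_smul, map_smul, comul_eq, rmon_eq, (comul_pr b φ _ m₁.1.2 m₁.2).2 q, map_nsmul]
        by_cases hq₁ : q ∈ m₁.1.1
        · have hm₁ := restricted_sublist m₁.1.2 m₁.2 (List.erase_sublist (a := q) (l := m₁.1.1))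
          rw [show toEnv b φ (pr b (m₁.1.1.erase q)) = rmon b φ ⟨⟨_, hm₁.1⟩, hm₁.2⟩ from rfl, coord_rmon, if_neg,
            smul_zero, smul_zero]
          intro h
          apply hne
          have h' : m₁.1.1.erase q = m.1.1.erase q := congrArg (fun x : RMon ι p => x.1.1) h
          refine Subtype.ext (mon_ext fun i => ?_)
          rw [(List.perm_cons_erase hq₁).count_eq, (List.perm_cons_erase hq).count_eq, h']
        · rw [List.count_eq_zero_of_not_mem hq₁, zero_smul, smul_zero]
      · simp
    have hR : (B.coord me) (lam b φ q (Coalgebra.comul (R := k) d)) = 0 := by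
      rw [hd, map_add, lam_tmul, lam_tmul, hone, coord_rmon, if_neg (fun h => by
        have := congrArg (fun m : RMon ι p => m.1.1.length) h
        simp [nilR, PBW.nil, single1] at this), zero_smul, add_zero, map_smul, coord_rmon, if_neg, smul_zero]
      intro h
      have := congrArg (fun m : RMon ι p => m.1.1.length) h
      simp only [nilR, PBW.nil, me, List.length_nil, List.length_erase_of_mem hq] at this
      omega
    rw [hR] at hL
    refine (mul_eq_zero.1 hL.symm).resolve_left ?_
    intro h0
    rw [CharP.cast_eq_zero_iff k p] at h0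
    exact (Nat.not_le.2 (m.2 q)) (Nat.le_of_dvd (List.count_pos_iff.2 hq) h0)
  rw [← hsum]
  refine Submodule.sum_mem _ fun m _ => ?_
  rcases Nat.lt_or_ge m.1.1.length 2 with h | h
  · rcases Nat.lt_or_ge m.1.1.length 1 with h' | h'
    · have : m = nilR := Subtype.ext (Subtype.ext (List.length_eq_zero_iff.1 (by omega)))
      rw [this, ← hcount, hε, zero_smul]
      exact Submodule.zero_mem _
    · obtain ⟨q, hq⟩ := List.length_eq_one_iff.1 (show m.1.1.length = 1 by omega)
      refine Submodule.smul_mem _ _ ⟨b q, ?_⟩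
      rw [rmon_eq, hq]
      simp [pr, incl_apply]
  · rw [hhigh m h, zero_smul]
    exact Submodule.zero_mem _

end Groth.Agent.RestrEnv
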